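import Groth.Agent.L13.HdgDiv.Wedge
import Groth.Agent.L17.ClosedPush
import Groth.Agent.L22.Reg.Closed
import Groth.Agent.L20.ExtPull
import Groth.Agent.L21.RR.Twist
import Groth.Agent.L20.DescLocus.Main
import Groth.Agent.L29.DCoh.Flat
import Groth.Agent.L29.DCoh.PullTensor
import Groth.Agent.L18.AmplePull
import Groth.Agent.L22.CurveDeg.Det.Main
import Groth.Agent.L14.ParaF.FinLoc

/-!
# The two sequences of a smooth divisor, twisted
-/

set_option autoImplicit false
set_option linter.style.haveILetI false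
set_option linter.unusedSectionVars false
set_option backward.isDefEq.respectTransparency false
set_option backward.isDefEq.respectTransparency.types false

universe u

open CategoryTheory CategoryTheory.Limits AlgebraicGeometry
open Groth.L00.Tensor

noncomputable section

namespace Groth.L13.HdgDiv

variable {X : Scheme.{u}}

theorem HasSeq.of_iso {A B C A' B' C' : X.Modules} (h : HasSeq A B C) (a : A ≅ A') (b : B ≅ B') (c : C ≅ C') :
    HasSeq A' B' C' := by
  obtain ⟨S, hS, ⟨e₁⟩, ⟨e₂⟩, ⟨e₃⟩⟩ := h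
  exact ⟨S, hS, ⟨e₁ ≪≫ a⟩, ⟨e₂ ≪≫ b⟩, ⟨e₃ ≪≫ c⟩⟩

theorem HasSeq.tensor {A B C : X.Modules} (h : HasSeq A B C) {T : X.Modules} (hT : FlatMod.IsFlat T) :
    HasSeq (CohB1.tensorMod A T) (CohB1.tensorMod B T) (CohB1.tensorMod C T) := by
  obtain ⟨S, hS, ⟨e₁⟩, ⟨e₂⟩, ⟨e₃⟩⟩ := h
  exact ⟨_, Groth.L16.FrameIso.shortExact_tensor_left hT S hS,
    ⟨tensorComm T S.X₁ ≪≫ tensorIso e₁ (Iso.refl T)⟩, ⟨tensorComm T S.X₂ ≪≫ tensorIso e₂ (Iso.refl T)⟩,
    ⟨tensorComm T S.X₃ ≪≫ tensorIso e₃ (Iso.refl T)⟩⟩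

variable {Y : Scheme.{u}} (i : Y ⟶ X) [IsClosedImmersion i]

theorem HasSeq.push {A B C : Y.Modules} (h : HasSeq A B C) :
    HasSeq ((Coh.push i).obj A) ((Coh.push i).obj B) ((Coh.push i).obj C) := by
  obtain ⟨S, hS, ⟨e₁⟩, ⟨e₂⟩, ⟨e₃⟩⟩ := h
  haveI : PreservesColimitsOfSize.{u, u} (Coh.push i) := Groth.L17.ClosedPush.preservesColimits_push i
  haveI : (Coh.push i).IsRightAdjoint := (Scheme.Modules.pullbackPushforwardAdjunction i).isRightAdjoint
  haveI : PreservesFiniteColimits (Coh.push i) := PreservesColimitsOfSize.preservesFiniteColimits _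
  haveI : PreservesFiniteLimits (Coh.push i) := inferInstance
  exact ⟨_, hS.map_of_exact (Coh.push i), ⟨(Coh.push i).mapIso e₁⟩, ⟨(Coh.push i).mapIso e₂⟩,
    ⟨(Coh.push i).mapIso e₃⟩⟩

/-- The projection formula. -/
def projection (N : X.Modules) (A : Y.Modules) :
    CohB1.tensorMod N ((Coh.push i).obj A) ≅ (Coh.push i).obj (CohB1.tensorMod ((Scheme.Modules.pullback i).obj N) A) :=
  (Groth.L17.ClosedPush.thetaIso i A).app N

/-- A module restricted to a closed subscheme. -/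
theorem hasSeq_restrict (I : X.IdealSheafData) {E : X.Modules} (hE : FlatMod.IsFlat E) :
    HasSeq (CohB1.tensorMod E (ClSub.idealMod I)) E
      ((Coh.push I.subschemeι).obj ((Scheme.Modules.pullback I.subschemeι).obj E)) :=
  ⟨_, Groth.L16.FrameIso.shortExact_tensor_left hE _ (Groth.L21.RR.shortExact_idealSeq I), ⟨Iso.refl _⟩,
    ⟨tensorUnitRight E⟩, ⟨projection I.subschemeι E (Coh.structureModule _) ≪≫
      (Coh.push I.subschemeι).mapIso (tensorUnitRight _)⟩⟩

/-- What the induction needs to know about a divisor. -/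
structure DivData (X : Scheme.{u}) (I : X.IdealSheafData) where
  /-- The forms of the ambient scheme. -/
  Ω : X.Modules
  /-- The forms of the divisor. -/
  Ω' : I.subscheme.Modules
  inv : PicF.IsInvertible (ClSub.idealMod I)
  free : FlatMod.IsFinLocFree Ω
  free' : FlatMod.IsFinLocFree Ω'
  seq : HasSeq ((Scheme.Modules.pullback I.subschemeι).obj (ClSub.idealMod I))
    ((Scheme.Modules.pullback I.subschemeι).obj Ω) Ω'
  /-- Exterior powers on the ambient scheme. -/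
  E : ℕ → X.Modules
  /-- Exterior powers on the divisor. -/
  F : ℕ → I.subscheme.Modules
  isE : ∀ p, ExtPow.IsExtPow p Ω (E p)
  isF : ∀ p, ExtPow.IsExtPow p Ω' (F p)
  freeE : ∀ p, FlatMod.IsFinLocFree (E p)

namespace DivData

variable {I : X.IdealSheafData} (D : DivData X I)

/-- Twisted forms of the ambient scheme. -/
def EE (T : ℕ → X.Modules) (p j : ℕ) : X.Modules := CohB1.tensorMod (D.E p) (T j)

/-- Twisted restricted forms. -/
def GG (T : ℕ → X.Modules) (p j : ℕ) : X.Modules :=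
  CohB1.tensorMod ((Coh.push I.subschemeι).obj ((Scheme.Modules.pullback I.subschemeι).obj (D.E p))) (T j)

/-- Twisted forms of the divisor. -/
def FF (T : ℕ → X.Modules) (p j : ℕ) : X.Modules :=
  CohB1.tensorMod ((Coh.push I.subschemeι).obj (D.F p)) (T j)

theorem seqB {A B : X.Modules} (hA : PicF.IsInvertible A)
    (e : CohB1.tensorMod A (ClSub.idealMod I) ≅ B) (p : ℕ) :
    HasSeq (CohB1.tensorMod (D.E p) B) (CohB1.tensorMod (D.E p) A)
      (CohB1.tensorMod ((Coh.push I.subschemeι).obj ((Scheme.Modules.pullback I.subschemeι).obj (D.E p))) A) :=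
  ((hasSeq_restrict I (Groth.L29.DC.isFlat_of_isFinLocFree (D.freeE p))).tensor
    (Groth.L21.RR.isFlat_of_isInvertible hA)).of_iso
    (tensorAssoc _ _ _ ≪≫ tensorIso (Iso.refl _) (tensorComm _ _ ≪≫ e)) (Iso.refl _) (Iso.refl _)

theorem seqA {A B : X.Modules} (hA : PicF.IsInvertible A)
    (e : CohB1.tensorMod A (ClSub.idealMod I) ≅ B) (p : ℕ) :
    HasSeq (CohB1.tensorMod ((Coh.push I.subschemeι).obj (D.F p)) B)
      (CohB1.tensorMod ((Coh.push I.subschemeι).obj ((Scheme.Modules.pullback I.subschemeι).obj (D.E (p + 1)))) A)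
      (CohB1.tensorMod ((Coh.push I.subschemeι).obj (D.F (p + 1))) A) := by
  obtain ⟨S, hS, ⟨e₁⟩, ⟨e₂⟩, ⟨e₃⟩⟩ := D.seq
  have h₁ : FlatMod.IsFinLocFreeOfRank 1 S.X₁ := Groth.L22.CurveDeg.Det.isFinLocFreeOfRank_one_of_isInvertible
    (Groth.L18.Ample.isInvertible_of_iso e₁.symm (Groth.L18.Ample.isInvertible_pullback _ D.inv))
  haveI : Coh.IsQCoh D.Ω := Groth.L15.PnHodge.isQCoh_of_locFree D.free
  haveI : Coh.IsQCoh ((Scheme.Modules.pullback I.subschemeι).obj D.Ω) :=
    Groth.L15.PnHodge.isQCoh_of_locFree (Groth.L20.DescLocus.isFinLocFree_pullback _ D.free)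
  haveI : Coh.IsQCoh S.X₂ := Groth.L29.DC.isQCoh_of_iso' e₂.symm inferInstance
  haveI : Coh.IsQCoh D.Ω' := Groth.L15.PnHodge.isQCoh_of_locFree D.free'
  have h₃ : FlatMod.IsFinLocFree S.X₃ := Groth.L14.ParaF.finLocFree_of_iso e₃.symm D.free'
  have h := exists_extPow_seq_sub hS h₁ h₃ p (Groth.L20.ExtPull.isExtPow_congr e₃.symm (D.isF (p + 1)))
    (Groth.L20.ExtPull.isExtPow_congr e₃.symm (D.isF p))
    (Groth.L20.ExtPull.isExtPow_congr e₂.symm
      (Groth.L20.ExtPull.isExtPow_pullback I.subschemeι (D.isE (p + 1))))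
  refine ((h.push I.subschemeι).of_iso
    ((Coh.push I.subschemeι).mapIso (tensorIso e₁ (Iso.refl _)) ≪≫ (projection _ _ _).symm)
    (Iso.refl _) (Iso.refl _)).tensor (Groth.L21.RR.isFlat_of_isInvertible hA) |>.of_iso ?_ (Iso.refl _) (Iso.refl _)
  exact tensorIso (tensorComm _ _) (Iso.refl _) ≪≫ tensorAssoc _ _ _ ≪≫
    tensorIso (Iso.refl _) (tensorComm _ _ ≪≫ e)

theorem zero_iso (T : X.Modules) : Nonempty
    (CohB1.tensorMod ((Coh.push I.subschemeι).obj ((Scheme.Modules.pullback I.subschemeι).obj (D.E 0))) T ≅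
      CohB1.tensorMod ((Coh.push I.subschemeι).obj (D.F 0)) T) := by
  haveI : Coh.IsQCoh D.Ω := Groth.L15.PnHodge.isQCoh_of_locFree D.free
  obtain ⟨e⟩ := isExtPow_zero_congr (Groth.L20.ExtPull.isExtPow_pullback I.subschemeι (D.isE 0)) (D.isF 0)
  exact ⟨tensorIso ((Coh.push I.subschemeι).mapIso e) (Iso.refl _)⟩

end DivData

end Groth.L13.HdgDiv
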