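import Groth.Agent.L13.HdgDiv.Main
import Groth.Agent.L20.SmoothLocal.RingProp
import Groth.Agent.L03.GeomReduced
import Groth.Agent.L19.OmegaSh.Unramified
import Groth.Agent.L18.LocFreeTilde
import Groth.Agent.L19.LocFreeDescent

/-!
# Absolute differentials of smooth schemes over a field with finite Frobenius
-/

set_option autoImplicit false
set_option linter.style.haveILetI false
set_option linter.unusedSectionVars false
set_option backward.isDefEq.respectTransparency false
set_option backward.isDefEq.respectTransparency.types false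

universe u

open CategoryTheory CategoryTheory.Limits AlgebraicGeometry Opposite
open Groth.L19.OmegaSh
open _root_.OmegaSh (Der IsUniversal IsConormalDiff)
open scoped TensorProduct

noncomputable section

namespace Groth.L13.HdgDiv

section Lift

variable {X T W : Scheme.{u}}

/-- Derivations over a scheme formally unramified over `W` are those over `W`. -/
def liftDer (h : X ⟶ T) (q : T ⟶ W) [FormallyUnramified q] {G : X.Modules} (D : Der (h ≫ q) G) : Der h G where
  d {U} := D.d
  d_mul a b := D.d_mul a b
  d_map i a := D.d_map i a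
  d_app {V} c := der_eq_zero_of_formallyUnramified (f := q) (pushDer h D) V.unop c

theorem liftDer_app (h : X ⟶ T) (q : T ⟶ W) [FormallyUnramified q] {G : X.Modules} (D : Der (h ≫ q) G)
    (U : X.Opens) (a : Γ(X, U)) : (liftDer h q D).app U a = D.app U a := rfl

/-- The universal derivation over `W` is universal over `T`. -/
theorem isUniversal_liftDer (h : X ⟶ T) (q : T ⟶ W) [FormallyUnramified q] {Ω : X.Modules} {d : Der (h ≫ q) Ω}
    (hd : IsUniversal d) : IsUniversal (liftDer h q d) := by
  intro G E
  let E' : Der (h ≫ q) G :=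
    { d := fun {U} => E.d
      d_mul := fun a b => E.d_mul a b
      d_map := fun i a => E.d_map i a
      d_app := fun {V} c => E.d_app (X := op (q ⁻¹ᵁ V.unop)) (q.app V.unop c) }
  have key : ∀ φ : Ω ⟶ G, (liftDer h q d).postcomp φ.val = E ↔ d.postcomp φ.val = E' := by
    intro φ
    constructor
    · intro e
      refine PresheafOfModules.Derivation.ext ?_
      ext U a
      exact congrArg (fun D : Der h G => D.app U.unop a) e
    · intro e
      refine PresheafOfModules.Derivation.ext ?_
      ext U a
      exact congrArg (fun D : Der (h ≫ q) G => D.app U.unop a) e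
  obtain ⟨φ, hφ, huniq⟩ := hd G E'
  exact ⟨φ, (key φ).2 hφ, fun ψ hψ => huniq ψ ((key ψ).1 hψ)⟩

end Lift

section Field

variable (k : Type u) [Field k]

/-- The prime field. -/
abbrev primeField : Type u := ↥(⊥ : Subfield k)

theorem intCast_surjective (p : ℕ) [Fact p.Prime] [CharP k p] :
    Function.Surjective (Int.cast : ℤ → primeField k) := by
  letI : Algebra (ZMod p) k := ZMod.algebra k p
  have hle : (⊥ : Subfield k) ≤ (ZMod.castHom (dvd_refl p) k).fieldRange := bot_le
  intro x
  obtain ⟨z, hz⟩ := hle x.2
  obtain ⟨n, rfl⟩ := ZMod.intCast_surjective z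
  exact ⟨n, Subtype.ext (by rw [map_intCast] at hz; simpa using hz)⟩

variable {k}

/-- Frobenius-finiteness bounds the absolute differentials of the field. -/
theorem finite_omega_field (p : ℕ) [Fact p.Prime] [CharP k p] (hF : (frobenius k p).Finite) :
    Module.Finite k Ω[k⁄primeField k] := by
  classical
  obtain ⟨s, hs⟩ : ∃ s : Finset k, ∀ (P : k → Prop), (∀ y ∈ s, P y) → P 0 → (∀ a b, P a → P b → P (a + b)) →
      (∀ c a, P a → P (frobenius k p c * a)) → ∀ x, P x := by
    letI := (frobenius k p).toAlgebra
    obtain ⟨s, hs⟩ := @Module.Finite.fg_top k k _ _ Algebra.toModule hF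
    refine ⟨s, fun P h1 h2 h3 h4 x => ?_⟩
    have hx := hs.ge (x := x) trivial
    refine @Submodule.span_induction k k _ _ Algebra.toModule (s : Set k) (fun x _ => P x) ?_ h2
      (fun a b _ _ ha hb => h3 a b ha hb) (fun c a _ ha => h4 c a ha) x hx
    exact fun y hy => h1 y hy
  refine ⟨⟨s.image (KaehlerDifferential.D (primeField k) k), ?_⟩⟩
  rw [eq_top_iff, ← KaehlerDifferential.span_range_derivation, Submodule.span_le]
  rintro _ ⟨x, rfl⟩
  revert x
  refine hs _ (fun y hy => Submodule.subset_span (Finset.mem_coe.2 (Finset.mem_image_of_mem _ hy))) ?_ ?_ ?_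
  · rw [map_zero]; exact zero_mem _
  · intro a b ha hb
    rw [map_add]; exact add_mem ha hb
  · intro c a ha
    rw [Derivation.leibniz, frobenius_def, Derivation.leibniz_pow,
      ← Nat.cast_smul_eq_nsmul k p, CharP.cast_eq_zero k p, zero_smul, smul_zero, add_zero]
    exact Submodule.smul_mem _ _ ha

end Field

variable {k : Type u} [Field k] (p : ℕ) [Fact p.Prime] [CharP k p]

theorem formallySmooth_field : Algebra.FormallySmooth (primeField k) k := by
  haveI := Groth.L03.GeomReduced.perfectField_bot k
  exact Groth.L03.FieldFS.formallySmooth_of_perfectField _ _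

/-- The prime field as a base. -/
abbrev primeSpec (k : Type u) [Field k] : Scheme.{u} := Spec (CommRingCat.of (primeField k))

/-- Projection to the prime field. -/
abbrev toPrime {X : Scheme.{u}} (f : X ⟶ Spec (CommRingCat.of k)) : X ⟶ primeSpec k :=
  f ≫ Spec.map (CommRingCat.ofHom (algebraMap (primeField k) k))

include p in
theorem formallyUnramified_primeSpec : FormallyUnramified (specULiftZIsTerminal.from (primeSpec k)) := by
  let φ : ULift.{u} ℤ →+* primeField k := (Int.castRingHom _).comp ULift.ringEquiv.toRingHom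
  have hφ : Function.Surjective φ := fun x => by
    obtain ⟨n, hn⟩ := intCast_surjective k p x
    exact ⟨⟨n⟩, hn⟩
  haveI : IsClosedImmersion (Spec.map (CommRingCat.ofHom φ)) :=
    IsClosedImmersion.spec_of_surjective _ hφ
  rw [show specULiftZIsTerminal.from (primeSpec k) = Spec.map (CommRingCat.ofHom φ) from
    specULiftZIsTerminal.hom_ext _ _]
  infer_instance

variable {X : Scheme.{u}} (f : X ⟶ Spec (CommRingCat.of k))

include p in
/-- The universal absolute derivation, over the prime field. -/
theorem exists_absDer [QuasiSeparated f] :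
    ∃ d : Der (toPrime f) (Omega.sheaf (specULiftZIsTerminal.from X)), IsUniversal d := by
  haveI := formallyUnramified_primeSpec (k := k) p
  haveI : QuasiSeparated (toPrime f) := inferInstance
  have e : toPrime f ≫ specULiftZIsTerminal.from (primeSpec k) = specULiftZIsTerminal.from X :=
    specULiftZIsTerminal.hom_ext _ _
  have hu : ∀ (g : X ⟶ Spec (CommRingCat.of (ULift.{u} ℤ))) [QuasiSeparated g],
      toPrime f ≫ specULiftZIsTerminal.from (primeSpec k) = g →
        ∃ d : Der (toPrime f) (Omega.sheaf g), IsUniversal d := by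
    rintro g _ rfl
    exact ⟨_, isUniversal_liftDer _ _ (isUniversal_dOmega (f := toPrime f ≫ specULiftZIsTerminal.from (primeSpec k)))⟩
  haveI : QuasiSeparated (specULiftZIsTerminal.from X) := by rw [← e]; infer_instance
  exact hu _ e

include p in
theorem isFinLocFree_absOmega [QuasiSeparated f] [Smooth f] (hF : (frobenius k p).Finite) :
    FlatMod.IsFinLocFree (Omega.sheaf (specULiftZIsTerminal.from X)) := by
  obtain ⟨d, hd⟩ := exists_absDer p f
  intro x
  obtain ⟨_, ⟨U, hU, rfl⟩, hxU, -⟩ :=
    X.isBasis_affineOpens.exists_subset_of_mem_open (Set.mem_univ x) isOpen_univ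
  let A := Γ(X, U)
  let ψ : CommRingCat.of k ⟶ A := Spec.preimage (hU.fromSpec ≫ f)
  letI : Algebra k A := ψ.hom.toAlgebra
  letI : Algebra (primeField k) A := Algebra.compHom A (algebraMap (primeField k) k)
  haveI : IsScalarTower (primeField k) k A := IsScalarTower.of_algebraMap_eq fun r => rfl
  haveI : Smooth (Spec.map ψ) := by rw [Spec.map_preimage]; infer_instance
  haveI : Algebra.Smooth k A :=
    RingHom.smooth_algebraMap.1 ((HasRingHomProperty.Spec_iff (P := @Smooth) (φ := ψ)).1 inferInstance)
  haveI := formallySmooth_field (k := k)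
  haveI : Algebra.FormallySmooth (primeField k) A := .comp _ k _
  haveI := finite_omega_field p hF
  haveI : Module.Finite A Ω[A⁄primeField k] := by
    haveI : Module.Finite A (LinearMap.range (KaehlerDifferential.mapBaseChange (primeField k) k A)) :=
      Module.Finite.range _
    haveI : Module.Finite A (Ω[A⁄primeField k] ⧸ LinearMap.range (KaehlerDifferential.mapBaseChange (primeField k) k A)) :=
      Module.Finite.equiv ((Submodule.quotEquivOfEq _ _
        (LinearMap.exact_iff.1 (KaehlerDifferential.exact_mapBaseChange_map (primeField k) k A)).symm).trans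
        ((KaehlerDifferential.map (primeField k) k A A).quotKerEquivOfSurjective
          (KaehlerDifferential.map_surjective _ _ _))).symm
    exact Module.Finite.of_submodule_quotient (LinearMap.range (KaehlerDifferential.mapBaseChange (primeField k) k A))
  haveI : Module.Projective A Ω[A⁄primeField k] := Algebra.FormallySmooth.projective_kaehlerDifferential
  obtain ⟨i, -⟩ := exists_chart hd (R := primeField k) (A := A) hU.fromSpec (𝟙 _) (by
    rw [Category.comp_id]
    show _ = hU.fromSpec ≫ f ≫ _
    rw [← Category.assoc, ← Spec.map_preimage (hU.fromSpec ≫ f), ← Spec.map_comp]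
    rfl)
  obtain ⟨U', n, hz, ⟨j⟩⟩ := Groth.L18.LFP.isFinLocFree_tilde (R := CommRingCat.of A)
    (ModuleCat.of A Ω[A⁄primeField k]) (hU.primeIdealOf ⟨x, hxU⟩)
  let c : Scheme.Modules.restrict (Omega.sheaf (specULiftZIsTerminal.from X)) (U'.ι ≫ hU.fromSpec) ≅
      FlatMod.freeMod (U' : Scheme.{u}) n :=
    (Scheme.Modules.restrictFunctorComp U'.ι hU.fromSpec).app _ ≪≫
      (Scheme.Modules.restrictFunctor U'.ι).mapIso i ≪≫ j
  refine ⟨(U'.ι ≫ hU.fromSpec).opensRange, n, ?_, Groth.L19.PullChart.exists_free_of_chart _ _ c⟩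
  exact ⟨⟨_, hz⟩, hU.fromSpec_primeIdealOf ⟨x, hxU⟩⟩

include p in
theorem formallySmoothHom_toPrime [Smooth f] : MoreMor.IsFormallySmoothHom (toPrime f) :=
  Groth.L20.SmoothLocal.isFormallySmoothHom_comp ((Groth.Agent.S1488.result f).1 inferInstance).2
    (Groth.L20.SmoothLocal.isFormallySmoothHom_specMap (RingHom.formallySmooth_algebraMap.2 formallySmooth_field))

include p in
/-- The divisor data of absolute differentials. -/
theorem exists_absData [QuasiSeparated f] [Smooth f] (hF : (frobenius k p).Finite) (I : X.IdealSheafData)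
    (hI : PicF.IsInvertible (ClSub.idealMod I)) [Smooth (I.subschemeι ≫ f)] :
    ∃ D : DivData X I, D.Ω = Omega.sheaf (specULiftZIsTerminal.from X) ∧
      D.Ω' = Omega.sheaf (specULiftZIsTerminal.from I.subscheme) := by
  have hfree := isFinLocFree_absOmega p f hF
  have hfree' := isFinLocFree_absOmega p (I.subschemeι ≫ f) hF
  haveI := Groth.L15.PnHodge.isQCoh_of_locFree hfree
  haveI := Groth.L15.PnHodge.isQCoh_of_locFree hfree'
  obtain ⟨d, hd⟩ := exists_absDer p f
  obtain ⟨d', hd'⟩ : ∃ d' : Der (I.subschemeι ≫ toPrime f) (Omega.sheaf (specULiftZIsTerminal.from I.subscheme)),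
      IsUniversal d' := by
    have h := exists_absDer p (I.subschemeι ≫ f)
    rwa [show toPrime (I.subschemeι ≫ f) = I.subschemeι ≫ toPrime f from Category.assoc _ _ _] at h
  obtain ⟨φ, hφ⟩ := exists_conormalDiff I.subschemeι d
  obtain ⟨c, hc, -⟩ := existsUnique_diffCompat I.subschemeι (𝟙 _) (Category.comp_id (I.subschemeι ≫ toPrime f)) hd d'
  obtain ⟨w, hex, hepi⟩ := exact_conormal_diff I.subschemeι hd hd' φ hφ c hc
  have hmono : Mono φ := mono_conormalDiff_of_formallySmooth (by
    have h := formallySmoothHom_toPrime p (I.subschemeι ≫ f)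
    rwa [show toPrime (I.subschemeι ≫ f) = I.subschemeι ≫ toPrime f from Category.assoc _ _ _] at h) hd hφ
  let D : DivData X I :=
    { Ω := Omega.sheaf (specULiftZIsTerminal.from X)
      Ω' := Omega.sheaf (specULiftZIsTerminal.from I.subscheme)
      inv := hI
      free := hfree
      free' := hfree'
      seq := ⟨_, { exact := hex, mono_f := hmono, epi_g := hepi }, ⟨(Scheme.Modules.pullback I.subschemeι).mapIso
        (eqToIso (congrArg ClSub.idealMod I.ker_subschemeι))⟩, ⟨Iso.refl _⟩, ⟨Iso.refl _⟩⟩
      E := fun q => Groth.L12.ExtSh.wedgeMod (Omega.sheaf (specULiftZIsTerminal.from X)) q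
      F := fun q => Groth.L12.ExtSh.wedgeMod (Omega.sheaf (specULiftZIsTerminal.from I.subscheme)) q
      isE := fun q => Groth.L12.ExtSh.isExtPow_wedgeMod _ q
      isF := fun q => Groth.L12.ExtSh.isExtPow_wedgeMod _ q
      freeE := fun q => Groth.L12.ExtSh.isFinLocFree_wedgeMod hfree q }
  exact ⟨D, rfl, rfl⟩

end Groth.L13.HdgDiv
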