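import Groth.Agent.L18.NegVanish
import Groth.Agent.L18.NegVanishField
import Groth.Agent.L18.LocPicCI
import Groth.Agent.L13.LefInter.Meet
import Groth.Agent.L21.Smooth.Scheme
import Groth.Agent.L01.AusBuch
import Groth.Agent.L03.ShStab.TwistFlat
import Groth.Agent.L15.PnHodge.ExtSeq

/-!
# Large negative twists of bundles have no cohomology below the dimension
-/

set_option autoImplicit false
set_option linter.style.haveILetI false
set_option linter.unusedSectionVars false
set_option backward.isDefEq.respectTransparency false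
set_option backward.isDefEq.respectTransparency.types false

universe u

open CategoryTheory CategoryTheory.Limits AlgebraicGeometry
open Groth.L00.Tensor

noncomputable section

namespace Groth.L13.HdgDiv

variable (k : Type u) [Field k] {X : Scheme.{u}} [X.Over (Spec (CommRingCat.of k))]
  [IsProper (X ↘ Spec (CommRingCat.of k))] [Smooth (X ↘ Spec (CommRingCat.of k))] [IrreducibleSpace X]

include k in
theorem le_depth_of_isClosed {n : ℕ} (hn : topologicalKrullDim X = n) {x : X} (hx : IsClosed ({x} : Set X)) :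
    (n : ℕ∞) ≤ LocCoh.depth (X.presheaf.stalk x) (X.presheaf.stalk x) := by
  haveI := Groth.L21.Smooth.regular_stalk (X ↘ Spec (CommRingCat.of k)) x
  obtain ⟨b, hb, hn'⟩ := Groth.L13.LefInter.dim_stalk_add_cdim k hn x
  rw [Groth.L13.LefInter.cdim_eq_zero_of_isClosed k hx, zero_add] at hn'
  exact Groth.L18.LocPic.le_depth_of_le_dim (R := X.presheaf.stalk x) [] (by simp)
    (RingTheory.Sequence.IsWeaklyRegular.nil _ _) (RingHom.id _) Function.surjective_id
    (by rw [Ideal.ofList_nil]; exact (RingHom.injective_iff_ker_eq_bot _).1 fun _ _ h => h) (k := n)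
    (by rw [hb, hn'])

include k in
/-- Serre's vanishing for negative twists. -/
theorem neg_vanish {n : ℕ} (hn : topologicalKrullDim X = n) {L L' : X.Modules} (hL : CohB1.IsAmple L)
    (e : CohB1.tensorMod L L' ≅ Coh.structureModule X) {F : X.Modules} (hF : FlatMod.IsFinLocFree F) :
    ∃ m₀ : ℕ, ∀ m : ℕ, m₀ ≤ m → ∀ q, q < n →
      Subsingleton (Coh.HH X (CohB1.tensorMod F (CohB1.tensorPow L' m)) q) := by
  rcases Nat.eq_zero_or_pos n with rfl | hpos
  · exact ⟨0, fun m _ q hq => absurd hq (Nat.not_lt_zero q)⟩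
  obtain ⟨n, rfl⟩ : ∃ n', n = n' + 1 := ⟨n - 1, by omega⟩
  haveI : Coh.IsQCoh F := Groth.L15.PnHodge.isQCoh_of_locFree hF
  obtain ⟨m₀, h⟩ := Groth.L18.NegVanish.exists_vanish (X ↘ Spec (CommRingCat.of k)) hL e
    (Groth.L16.NegPow.isCoh_of_isFinLocFree hF) (Groth.L03.ShStab.TwistFlat.isFlatOver_field _ F) n fun x hx => by
    rw [Groth.L18.NegVanish.sdep_field]
    haveI := Groth.L18.LFP.finite_stalk F (Groth.L18.LFP.isFP_of_isFinLocFree F hF) x
    haveI := Groth.L18.LFP.free_stalk F hF x
    rcases subsingleton_or_nontrivial (F.presheaf.stalk x) with hs | hs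
    · rw [LocCoh.depth, Groth.L04.idealDepth_eq_top (Subsingleton.elim _ _)]
      exact le_top
    · haveI := Groth.L21.Smooth.regular_stalk (X ↘ Spec (CommRingCat.of k)) x
      exact (Groth.L01.AusBuch.depth_free _ _).2 (le_depth_of_isClosed k hn hx)
  exact ⟨m₀, fun m hm q hq => h m hm q (Nat.lt_succ_iff.1 hq)⟩

end Groth.L13.HdgDiv
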