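import Groth.Agent.L13.HdgDiv.Main
import Groth.Agent.L13.HdgDiv.Vanish
import Groth.Agent.L16.Existence.AmpleVanish
import Groth.Agent.L08.Cube.Inverse

/-!
# The bounds for hypersurface sections of high degree
-/

set_option autoImplicit false
set_option linter.style.haveILetI false
set_option linter.unusedSectionVars false
set_option backward.isDefEq.respectTransparency false
set_option backward.isDefEq.respectTransparency.types false

universe u

open CategoryTheory CategoryTheory.Limits AlgebraicGeometry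
open Groth.L00.Tensor

noncomputable section

namespace Groth.L13.HdgDiv

variable {X : Scheme.{u}}

/-- Powers of an inverse of `L^{⊗ m}`. -/
def powInverse {J L L' : X.Modules} (eL : CohB1.tensorMod L L' ≅ Coh.structureModule X) {m : ℕ}
    (e : CohB1.tensorMod J (CohB1.tensorPow L m) ≅ Coh.structureModule X) (j : ℕ) :
    CohB1.tensorPow J j ≅ CohB1.tensorPow L' (m * j) :=
  Groth.L18.NegVanish.inverseUniq (M := CohB1.tensorPow L (m * j))
    (tensorIso (tensorPowMul L m j).symm (Iso.refl _) ≪≫
      Groth.L16.NegPow.powInvIso (tensorComm _ _ ≪≫ e) j)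
    (Groth.L16.NegPow.powInvIso eL (m * j))

variable (k : Type u) [Field k] [X.Over (Spec (CommRingCat.of k))]
  [IsProper (X ↘ Spec (CommRingCat.of k))] [Smooth (X ↘ Spec (CommRingCat.of k))]

include k in
/-- Negative twists of forms vanish below the middle range, for high powers. -/
theorem exists_neg_bound [IrreducibleSpace X] {n : ℕ} (hn : topologicalKrullDim X = n) {L : X.Modules}
    (hL : CohB1.IsAmple L) :
    ∃ m₀ : ℕ, ∀ m, m₀ ≤ m → ∀ J : X.Modules, Nonempty (CohB1.tensorMod J (CohB1.tensorPow L m) ≅ Coh.structureModule X) →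
      ∀ (p q j : ℕ) (E : X.Modules), ExtPow.IsExtPow p (Omega.sheaf (X ↘ Spec (CommRingCat.of k))) E →
        p + q < n → 1 ≤ j → Subsingleton (Coh.HH X (CohB1.tensorMod E (CohB1.tensorPow J j)) q) := by
  classical
  obtain ⟨L', -, ⟨eL⟩⟩ := Groth.L08.Cube.exists_inverse hL.1
  haveI : IsLocallyNoetherian X := LocallyOfFiniteType.isLocallyNoetherian (X ↘ Spec (CommRingCat.of k))
  have hΩ := Groth.L14.LocTriv.isFinLocFree_omega' (X ↘ Spec (CommRingCat.of k))
  haveI := Groth.L15.PnHodge.isQCoh_of_locFree hΩ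
  choose b hb using fun p : ℕ => neg_vanish k hn hL eL (Groth.L12.ExtSh.isFinLocFree_wedgeMod hΩ p)
  refine ⟨(Finset.range (n + 1)).sup b, fun m hm J hJ p q j E hE hpq hj => ?_⟩
  obtain ⟨e⟩ := hJ
  obtain ⟨eE⟩ := Groth.L12.ExtSh.nonempty_iso_of_isExtPow hE (Groth.L12.ExtSh.isExtPow_wedgeMod _ p)
  refine Groth.L22.EnrSev.subsingleton_of_iso (tensorIso eE.symm (powInverse eL e j).symm) q
    (hb p (m * j) ?_ q (by omega))
  exact ((Finset.le_sup (f := b) (Finset.mem_range.2 (by omega))).trans hm).trans (Nat.le_mul_of_pos_right m hj)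

include k in
/-- Positive twists of forms are acyclic, for high powers. -/
theorem exists_pos_bound {n : ℕ} (hn : topologicalKrullDim X = n) {L : X.Modules} (hL : CohB1.IsAmple L) :
    ∃ m₀ : ℕ, ∀ m, m₀ ≤ m → ∀ (p a j : ℕ) (E : X.Modules),
      ExtPow.IsExtPow p (Omega.sheaf (X ↘ Spec (CommRingCat.of k))) E → 1 ≤ a → 1 ≤ j →
        Subsingleton (Coh.HH X (CohB1.tensorMod E (CohB1.tensorPow (CohB1.tensorPow L m) j)) a) := by
  classical
  haveI : IsLocallyNoetherian X := LocallyOfFiniteType.isLocallyNoetherian (X ↘ Spec (CommRingCat.of k))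
  have hΩ := Groth.L14.LocTriv.isFinLocFree_omega' (X ↘ Spec (CommRingCat.of k))
  haveI := Groth.L15.PnHodge.isQCoh_of_locFree hΩ
  choose b hb using fun p : ℕ => Groth.L16.Existence.exists_vanishing_of_isAmple (A := k) hL
    (Groth.L16.NegPow.isCoh_of_isFinLocFree (Groth.L12.ExtSh.isFinLocFree_wedgeMod hΩ p))
  refine ⟨(Finset.range (n + 1)).sup b, fun m hm p a j E hE ha hj => ?_⟩
  obtain ⟨eE⟩ := Groth.L12.ExtSh.nonempty_iso_of_isExtPow hE (Groth.L12.ExtSh.isExtPow_wedgeMod _ p)
  by_cases hp : n < p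
  · haveI : (tensorRightF (CohB1.tensorPow (CohB1.tensorPow L m) j)).Additive :=
      Functor.additive_of_preserves_binary_products _
    exact Groth.L03.Euler.subsingleton_HH_of_isZero
      ((tensorRightF (CohB1.tensorPow (CohB1.tensorPow L m) j)).map_isZero (isZero_of_dim_lt k hn hp hE)) a
  · refine Groth.L22.EnrSev.subsingleton_of_iso
      (tensorComm _ _ ≪≫ tensorIso eE.symm (tensorPowMul L m j).symm) a (hb p (m * j) ?_ a ha)
    exact ((Finset.le_sup (f := b) (Finset.mem_range.2 (by omega))).trans hm).trans (Nat.le_mul_of_pos_right m hj)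

end Groth.L13.HdgDiv
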