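import Groth.Agent.L15.PnHodge.SumCoh
import Groth.Agent.L22.EnrSev.Basic
import Groth.Agent.L03.Euler.Basic

/-!
# The Lefschetz induction along the two sequences of a smooth divisor

Cohomological bookkeeping only: `EE p j` stands for the twisted forms of the ambient scheme, `GG p j`
for their restriction to the divisor and `FF p j` for the twisted forms of the divisor.
-/

set_option autoImplicit false
set_option linter.style.haveILetI false
set_option linter.unusedSectionVars false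
set_option backward.isDefEq.respectTransparency false

universe u

open CategoryTheory CategoryTheory.Limits AlgebraicGeometry
open Groth.L16.CohLinear Groth.L15.PnHodge

noncomputable section

namespace Groth.L13.HdgDiv

variable {X : Scheme.{u}}

/-- A short exact sequence with prescribed terms. -/
def HasSeq (A B C : X.Modules) : Prop :=
  ∃ S : ShortComplex X.Modules, S.ShortExact ∧ Nonempty (S.X₁ ≅ A) ∧ Nonempty (S.X₂ ≅ B) ∧ Nonempty (S.X₃ ≅ C)

theorem subsingleton_congr {M N : X.Modules} (e : M ≅ N) (q : ℕ) :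
    Subsingleton (Coh.HH X M q) ↔ Subsingleton (Coh.HH X N q) :=
  ⟨fun h => Groth.L22.EnrSev.subsingleton_of_iso e q h, fun h => Groth.L22.EnrSev.subsingleton_of_iso e.symm q h⟩

theorem HasSeq.van_right {A B C : X.Modules} (h : HasSeq A B C) {q : ℕ}
    (h₂ : Subsingleton (Coh.HH X B q)) (h₁ : Subsingleton (Coh.HH X A (q + 1))) :
    Subsingleton (Coh.HH X C q) := by
  obtain ⟨S, hS, ⟨e₁⟩, ⟨e₂⟩, ⟨e₃⟩⟩ := h
  exact (subsingleton_congr e₃ q).1 (Groth.L15.PnHodge.van_right hS ((subsingleton_congr e₂ q).2 h₂)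
    ((subsingleton_congr e₁ _).2 h₁))

theorem HasSeq.van_left {A B C : X.Modules} (h : HasSeq A B C) {q : ℕ}
    (h₃ : Subsingleton (Coh.HH X C q)) (h₂ : Subsingleton (Coh.HH X B (q + 1))) :
    Subsingleton (Coh.HH X A (q + 1)) := by
  obtain ⟨S, hS, ⟨e₁⟩, ⟨e₂⟩, ⟨e₃⟩⟩ := h
  exact (subsingleton_congr e₁ _).1 (Groth.L15.PnHodge.van_left hS ((subsingleton_congr e₃ q).2 h₃)
    ((subsingleton_congr e₂ _).2 h₂))

theorem HasSeq.isZero_left {A B C : X.Modules} (h : HasSeq A B C) (hB : IsZero B) : IsZero A := by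
  obtain ⟨S, hS, ⟨e₁⟩, ⟨e₂⟩, -⟩ := h
  haveI := hS.mono_f
  exact (IsZero.of_mono S.f (hB.of_iso e₂)).of_iso e₁.symm

variable (k : Type u) [Field k] [X.Over (Spec (CommRingCat.of k))]

/-- The second map on cohomology, injective or bijective by the vanishing of the first term. -/
theorem HasSeq.exists_map {A B C : X.Modules} (h : HasSeq A B C) {q : ℕ}
    (hA : Subsingleton (Coh.HH X A q)) :
    ∃ f : Coh.HH X B q →ₗ[k] Coh.HH X C q, Function.Injective f ∧
      (Subsingleton (Coh.HH X A (q + 1)) → Function.Surjective f) := by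
  obtain ⟨S, hS, ⟨e₁⟩, ⟨e₂⟩, ⟨e₃⟩⟩ := h
  haveI := (subsingleton_congr e₁ q).2 hA
  let g := overLin k (hmap S.g q)
  have hg : Function.Injective g := by
    rw [← LinearMap.ker_eq_bot, LinearMap.ker_eq_bot']
    intro x hx
    obtain ⟨y, rfl⟩ := (exact_hmap_hmap hS q x).1 hx
    rw [Subsingleton.elim y 0, map_zero]
  refine ⟨(hhIso k e₃ q).toLinearMap.comp (g.comp (hhIso k e₂ q).symm.toLinearMap), ?_, fun hA' => ?_⟩
  · exact (hhIso k e₃ q).injective.comp (hg.comp (hhIso k e₂ q).symm.injective)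
  · exact (hhIso k e₃ q).surjective.comp ((surjective_g hS ((subsingleton_congr e₁ _).2 hA')).comp
      (hhIso k e₂ q).symm.surjective)

section Neg

variable {EE GG FF : ℕ → ℕ → X.Modules} {N : ℕ}
  (hB : ∀ p j, HasSeq (EE p (j + 1)) (EE p j) (GG p j))
  (hA : ∀ p j, HasSeq (FF p (j + 1)) (GG (p + 1) j) (FF (p + 1) j))
  (h0 : ∀ j, Nonempty (GG 0 j ≅ FF 0 j))
  (hE : ∀ p q j, p + q < N → 1 ≤ j → Subsingleton (Coh.HH X (EE p j) q))

include hB hE in
theorem van_restr {p q j : ℕ} (h : p + q + 2 ≤ N) (hj : 1 ≤ j) : Subsingleton (Coh.HH X (GG p j) q) :=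
  (hB p j).van_right (hE p q j (by omega) hj) (hE p (q + 1) (j + 1) (by omega) (by omega))

include hB hA h0 hE in
theorem van_divisor : ∀ {p q j : ℕ}, p + q + 2 ≤ N → 1 ≤ j → Subsingleton (Coh.HH X (FF p j) q)
  | 0, q, j, h, hj => (subsingleton_congr (h0 j).some q).1 (van_restr hB hE h hj)
  | p + 1, q, j, h, hj => (hA p j).van_right (van_restr hB hE h hj)
      (van_divisor (p := p) (q := q + 1) (j := j + 1) (by omega) (by omega))

include hB hA h0 hE in
/-- Restriction to the divisor: injective for `p + q < N`, bijective for `p + q + 1 < N`. -/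
theorem exists_restriction {p q : ℕ} (h : p + q + 1 ≤ N) :
    ∃ f : Coh.HH X (EE p 0) q →ₗ[k] Coh.HH X (FF p 0) q, Function.Injective f ∧
      (p + q + 2 ≤ N → Function.Surjective f) := by
  obtain ⟨f, hf, hf'⟩ := (hB p 0).exists_map k (hE p q 1 (by omega) le_rfl)
  cases p with
  | zero =>
    obtain ⟨e⟩ := h0 0
    exact ⟨(hhIso k e q).toLinearMap.comp f, (hhIso k e q).injective.comp hf,
      fun h' => (hhIso k e q).surjective.comp (hf' (hE 0 (q + 1) 1 (by omega) le_rfl))⟩
  | succ p =>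
    obtain ⟨g, hg, hg'⟩ := (hA p 0).exists_map k (van_divisor hB hA h0 hE (q := q) (by omega) le_rfl)
    exact ⟨g.comp f, hg.comp hf, fun h' =>
      (hg' (van_divisor hB hA h0 hE (q := q + 1) (by omega) le_rfl)).comp
        (hf' (hE (p + 1) (q + 1) 1 (by omega) le_rfl))⟩

include hB hA h0 hE in
theorem finrank_eq {p q : ℕ} (h : p + q + 2 ≤ N) :
    Module.finrank k (Coh.HH X (EE p 0) q) = Module.finrank k (Coh.HH X (FF p 0) q) := by
  obtain ⟨f, hf, hf'⟩ := exists_restriction k hB hA h0 hE (p := p) (q := q) (by omega)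
  exact (LinearEquiv.ofBijective f ⟨hf, hf' h⟩).finrank_eq

include hB hA h0 hE in
theorem finrank_le {p q : ℕ} (h : p + q + 1 ≤ N) (hfin : Module.Finite k (Coh.HH X (FF p 0) q)) :
    Module.finrank k (Coh.HH X (EE p 0) q) ≤ Module.finrank k (Coh.HH X (FF p 0) q) := by
  obtain ⟨f, hf, -⟩ := exists_restriction k hB hA h0 hE h
  exact LinearMap.finrank_le_finrank_of_injective hf

end Neg

section Pos

variable {EE GG FF : ℕ → ℕ → X.Modules} {n : ℕ}
  (hB : ∀ p j, HasSeq (EE p j) (EE p (j + 1)) (GG p (j + 1)))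
  (hA : ∀ p j, HasSeq (FF p j) (GG (p + 1) (j + 1)) (FF (p + 1) (j + 1)))
  (hG : ∀ p j, n < p → IsZero (GG p j))
  (hE : ∀ p a j, 1 ≤ a → 1 ≤ j → Subsingleton (Coh.HH X (EE p j) a))

include hB hA hG hE in
theorem van_divisor_pos : ∀ {d b a j : ℕ}, n ≤ b + d → n ≤ a + b → 1 ≤ j →
    Subsingleton (Coh.HH X (FF b j) a)
  | 0, b, a, j, hd, _, _ =>
    Groth.L03.Euler.subsingleton_HH_of_isZero ((hA b j).isZero_left (hG (b + 1) (j + 1) (by omega))) a
  | d + 1, b, a, j, hd, hab, hj => by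
    by_cases hb : n ≤ b
    · exact van_divisor_pos (d := d) (by omega) hab hj
    obtain ⟨a, rfl⟩ : ∃ a', a = a' + 1 := ⟨a - 1, by omega⟩
    exact (hA b j).van_left (van_divisor_pos (d := d) (b := b + 1) (a := a) (by omega) (by omega) (by omega))
      ((hB (b + 1) j).van_right (hE _ _ _ (by omega) (by omega)) (hE _ _ _ (by omega) hj))

end Pos

end Groth.L13.HdgDiv
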