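import Groth.Agent.L13.HdgDiv.Setup
import Groth.Agent.L13.FEtLeff.Ample
import Groth.Agent.L18.RegularSection
import Groth.Agent.L22.Adjunction.Seq
import Groth.Agent.L22.Adjunction.SmoothDual
import Groth.Agent.L14.DefLift.LocTriv.SmoothRigid
import Groth.Agent.L16.NegPow.Gen
import Groth.Agent.L18.NegVanish
import Groth.Agent.L21.Mod.Locality
import Groth.Agent.L03.BlowPt.DetCongr

/-!
# Lefschetz for Hodge cohomology of a smooth divisor
-/

set_option autoImplicit false
set_option linter.style.haveILetI false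
set_option linter.unusedSectionVars false
set_option backward.isDefEq.respectTransparency false
set_option backward.isDefEq.respectTransparency.types false

universe u

open CategoryTheory CategoryTheory.Limits AlgebraicGeometry
open Groth.L00.Tensor

noncomputable section

namespace Groth.L13.HdgDiv

variable {X S : Scheme.{u}}

/-- Around a point a smooth morphism has a relative dimension. -/
theorem exists_relDim_nhd (f : X ⟶ S) [Smooth f] (x : X) :
    ∃ (Z : Scheme.{u}) (j : Z ⟶ X) (r : ℕ), IsOpenImmersion j ∧ x ∈ Set.range j ∧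
      SmoothOfRelativeDimension r (j ≫ f) := by
  obtain ⟨V, hV, U, hU, hxU, e, hstd⟩ := Smooth.exists_isStandardSmooth f x
  let φ := f.appLE V U e
  letI : Algebra Γ(S, V) Γ(X, U) := φ.hom.toAlgebra
  haveI : Algebra.IsStandardSmooth Γ(S, V) Γ(X, U) := hstd
  haveI : Nonempty U := ⟨⟨_, hxU⟩⟩
  let n := Module.finrank Γ(X, U) Ω[Γ(X, U)⁄Γ(S, V)]
  haveI hn : Algebra.IsStandardSmoothOfRelativeDimension n Γ(S, V) Γ(X, U) :=
    (Algebra.IsStandardSmoothOfRelativeDimension.iff_of_isStandardSmooth n).mpr (Module.finrank_eq_rank _ _).symm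
  haveI : SmoothOfRelativeDimension n (Spec.map φ) := by
    rw [HasRingHomProperty.Spec_iff (P := @SmoothOfRelativeDimension n)]
    exact RingHom.locally_of (RingHom.isStandardSmoothOfRelativeDimension_respectsIso) _ hn
  have h : SmoothOfRelativeDimension (n + 0) (Spec.map φ ≫ hV.fromSpec) := inferInstance
  rw [add_zero, IsAffineOpen.SpecMap_appLE_fromSpec f hV hU e] at h
  exact ⟨_, hU.fromSpec, n, inferInstance, by rw [hU.range_fromSpec]; exact hxU, h⟩

variable (k : Type u) [Field k] [X.Over (Spec (CommRingCat.of k))] [Smooth (X ↘ Spec (CommRingCat.of k))]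

include k in
/-- There are no forms above the dimension. -/
theorem isZero_of_dim_lt {n p : ℕ} (hn : topologicalKrullDim X = n) (hp : n < p) {E : X.Modules}
    (hE : ExtPow.IsExtPow p (Omega.sheaf (X ↘ Spec (CommRingCat.of k))) E) : IsZero E := by
  choose Z j r hj hx hr using exists_relDim_nhd (X ↘ Spec (CommRingCat.of k))
  haveI := hj
  refine Groth.L21.Mod.isZero_of_restrict j (fun x => ⟨x, hx x⟩) E fun x => ?_
  haveI := hr x
  letI : (Z x).Over (Spec (CommRingCat.of k)) := ⟨j x ≫ X ↘ Spec (CommRingCat.of k)⟩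
  haveI : SmoothOfRelativeDimension (r x) (Z x ↘ Spec (CommRingCat.of k)) := hr x
  obtain ⟨z, -⟩ := hx x
  haveI : Nonempty (Z x) := ⟨z⟩
  have hd : r x ≤ n := by
    have h := (Groth.L22.Adjunction.topologicalKrullDim_eq_relDim k (r x) (Z x)).symm.trans_le
      ((j x).isOpenEmbedding.isInducing.topologicalKrullDim_le.trans hn.le)
    exact_mod_cast h
  haveI : QuasiSeparated (X ↘ Spec (CommRingCat.of k)) := by
    haveI : IsLocallyNoetherian X := LocallyOfFiniteType.isLocallyNoetherian (X ↘ Spec (CommRingCat.of k))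
    infer_instance
  haveI : Smooth (Z x ↘ Spec (CommRingCat.of k)) := SmoothOfRelativeDimension.smooth (r x) _
  haveI : QuasiSeparated (Z x ↘ Spec (CommRingCat.of k)) := by
    haveI : IsLocallyNoetherian (Z x) := LocallyOfFiniteType.isLocallyNoetherian (Z x ↘ Spec (CommRingCat.of k))
    infer_instance
  obtain ⟨e⟩ := Groth.L03.BlowPt.nonempty_omega_restrict (X ↘ Spec (CommRingCat.of k)) (j x)
    (Z x ↘ Spec (CommRingCat.of k)) (𝟙 (Z x)) (Category.id_comp _).symm
  haveI : Coh.IsQCoh (Omega.sheaf (X ↘ Spec (CommRingCat.of k))) :=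
    Groth.L15.PnHodge.isQCoh_of_locFree (Groth.L14.LocTriv.isFinLocFree_omega' _)
  have hE' := Groth.L20.ExtPull.isExtPow_congr (e ≪≫ (Scheme.Modules.pullbackId _).app _)
    (Groth.L20.ExtPull.isExtPow_pullback (j x) hE)
  have hz := Groth.L15.PnHodge.isZero_wedge
    (Groth.L02.Canon.isFinLocFreeOfRank_omega (f := Z x ↘ Spec (CommRingCat.of k)) (r x)) hE' (hd.trans_lt hp)
  exact hz.of_iso ((Scheme.Modules.restrictFunctorIsoPullback (j x)).app E)

/-- The divisor data of relative differentials. -/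
def relData {T : Scheme.{u}} (f : X ⟶ T) [QuasiSeparated f] [Smooth f] (I : X.IdealSheafData)
    (hI : PicF.IsInvertible (ClSub.idealMod I)) [Smooth (I.subschemeι ≫ f)] : DivData X I where
  Ω := Omega.sheaf f
  Ω' := Omega.sheaf (I.subschemeι ≫ f)
  inv := hI
  free := Groth.L14.LocTriv.isFinLocFree_omega' f
  free' := Groth.L14.LocTriv.isFinLocFree_omega' _
  seq := by
    obtain ⟨φ, c, w, h⟩ := Groth.L22.Adjunction.exists_seq f I.subschemeι
    exact ⟨_, h, ⟨(Scheme.Modules.pullback I.subschemeι).mapIso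
      (eqToIso (congrArg ClSub.idealMod I.ker_subschemeι))⟩, ⟨Iso.refl _⟩, ⟨Iso.refl _⟩⟩
  E := fun p =>
    haveI := Groth.L15.PnHodge.isQCoh_of_locFree (Groth.L14.LocTriv.isFinLocFree_omega' f)
    Groth.L12.ExtSh.wedgeMod (Omega.sheaf f) p
  F := fun p =>
    haveI := Groth.L15.PnHodge.isQCoh_of_locFree (Groth.L14.LocTriv.isFinLocFree_omega' (I.subschemeι ≫ f))
    Groth.L12.ExtSh.wedgeMod (Omega.sheaf (I.subschemeι ≫ f)) p
  isE := fun p => by
    haveI := Groth.L15.PnHodge.isQCoh_of_locFree (Groth.L14.LocTriv.isFinLocFree_omega' f)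
    exact Groth.L12.ExtSh.isExtPow_wedgeMod _ p
  isF := fun p => by
    haveI := Groth.L15.PnHodge.isQCoh_of_locFree (Groth.L14.LocTriv.isFinLocFree_omega' (I.subschemeι ≫ f))
    exact Groth.L12.ExtSh.isExtPow_wedgeMod _ p
  freeE := fun p => by
    haveI := Groth.L15.PnHodge.isQCoh_of_locFree (Groth.L14.LocTriv.isFinLocFree_omega' f)
    exact Groth.L12.ExtSh.isFinLocFree_wedgeMod (Groth.L14.LocTriv.isFinLocFree_omega' f) p

omit [X.Over (Spec (CommRingCat.of k))] [Smooth (X ↘ Spec (CommRingCat.of k))] in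
theorem isRegularSec_of_mono {L : X.Modules} (hL : PicF.IsInvertible L) (s : Coh.structureModule X ⟶ L) [Mono s] :
    Groth.L18.RegSec.IsRegularSec s := fun x => by
  obtain ⟨W, e, hW, hxW, he⟩ := Groth.L18.GenLoc.exists_affine_frame hL x
  obtain ⟨c, hc⟩ := he.exists_coeff le_rfl (Groth.L18.Frame.rs L le_top (Groth.L18.GenLoc.secOf s))
  rw [Groth.L18.Frame.rs_self] at hc
  exact ⟨⟨W, hW⟩, e, c, hxW, he, hc, Groth.L13.FEtLeff.isReg_of_mono s W hW e c he hc⟩

/-- The ideal of the zero scheme of a regular section. -/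
theorem zeroScheme_inverse {L : X.Modules} (hL : PicF.IsInvertible L) (s : Coh.structureModule X ⟶ L) [Mono s] :
    PicF.IsInvertible (ClSub.idealMod (PicF2.zeroScheme L s)) ∧
      Nonempty (CohB1.tensorMod (ClSub.idealMod (PicF2.zeroScheme L s)) L ≅ Coh.structureModule X) := by
  have h := isRegularSec_of_mono hL s
  exact ⟨(Groth.Agent.L19.IdealInvertible.isEffCartier_iff _).2
    (Groth.L18.RegSec.isEffCartierIdeal_zeroScheme hL s h), Groth.L18.RegSec.nonempty_tensor_zeroScheme hL s h⟩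

namespace DivData

variable {I : X.IdealSheafData} (D : DivData X I)

theorem negSeqB (p j : ℕ) : HasSeq (D.EE (CohB1.tensorPow (ClSub.idealMod I)) p (j + 1))
    (D.EE (CohB1.tensorPow (ClSub.idealMod I)) p j) (D.GG (CohB1.tensorPow (ClSub.idealMod I)) p j) :=
  D.seqB (Groth.L18.Ample.isInvertible_tensorPow D.inv j) (Iso.refl _) p

theorem negSeqA (p j : ℕ) : HasSeq (D.FF (CohB1.tensorPow (ClSub.idealMod I)) p (j + 1))
    (D.GG (CohB1.tensorPow (ClSub.idealMod I)) (p + 1) j) (D.FF (CohB1.tensorPow (ClSub.idealMod I)) (p + 1) j) :=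
  D.seqA (Groth.L18.Ample.isInvertible_tensorPow D.inv j) (Iso.refl _) p

variable {N : ℕ} (hE : ∀ p q j, p + q < N → 1 ≤ j →
  Subsingleton (Coh.HH X (CohB1.tensorMod (D.E p) (CohB1.tensorPow (ClSub.idealMod I) j)) q))

include hE in
theorem neg_van {p q j : ℕ} (h : p + q + 2 ≤ N) (hj : 1 ≤ j) :
    Subsingleton (Coh.HH X (CohB1.tensorMod ((Coh.push I.subschemeι).obj (D.F p))
      (CohB1.tensorPow (ClSub.idealMod I) j)) q) :=
  van_divisor (D.negSeqB) (D.negSeqA) (fun j => D.zero_iso _) hE h hj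

variable {p : ℕ} {E : X.Modules} (hEp : ExtPow.IsExtPow p D.Ω E) {F : I.subscheme.Modules}
  (hFp : ExtPow.IsExtPow p D.Ω' F)

include hE hEp hFp in
theorem neg_finrank {q : ℕ} :
    (p + q + 2 ≤ N →
      Module.finrank k (Coh.HH X E q) = Module.finrank k (Coh.HH X ((Coh.push I.subschemeι).obj F) q)) ∧
    (p + q + 1 ≤ N → Module.Finite k (Coh.HH X ((Coh.push I.subschemeι).obj F) q) →
      Module.finrank k (Coh.HH X E q) ≤ Module.finrank k (Coh.HH X ((Coh.push I.subschemeι).obj F) q)) := by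
  haveI := Groth.L15.PnHodge.isQCoh_of_locFree D.free
  haveI := Groth.L15.PnHodge.isQCoh_of_locFree D.free'
  obtain ⟨eE⟩ := Groth.L12.ExtSh.nonempty_iso_of_isExtPow hEp (D.isE p)
  obtain ⟨eF⟩ := Groth.L12.ExtSh.nonempty_iso_of_isExtPow hFp (D.isF p)
  let a := Groth.L15.PnHodge.hhIso k (eE ≪≫ (tensorUnitRight (D.E p)).symm) q
  let b := Groth.L15.PnHodge.hhIso k ((Coh.push I.subschemeι).mapIso eF ≪≫
    (tensorUnitRight ((Coh.push I.subschemeι).obj (D.F p))).symm) q
  refine ⟨fun h => ?_, fun h hfin => ?_⟩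
  · rw [a.finrank_eq, b.finrank_eq]
    exact finrank_eq k (D.negSeqB) (D.negSeqA) (fun j => D.zero_iso _) hE h
  · rw [a.finrank_eq, b.finrank_eq]
    haveI := hfin
    exact finrank_le k (D.negSeqB) (D.negSeqA) (fun j => D.zero_iso _) hE h (Module.Finite.equiv b)

end DivData

/-- Vanishing on the divisor for positive twists. -/
theorem DivData.pos_van {I : X.IdealSheafData} (D : DivData X I) {M : X.Modules} (hM : PicF.IsInvertible M)
    (e : CohB1.tensorMod (ClSub.idealMod I) M ≅ Coh.structureModule X) {n : ℕ} (hG : ∀ p, n < p → IsZero (D.E p))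
    (hE : ∀ p a j, 1 ≤ a → 1 ≤ j → Subsingleton (Coh.HH X (CohB1.tensorMod (D.E p) (CohB1.tensorPow M j)) a))
    {a b j : ℕ} (hab : n ≤ a + b) (hj : 1 ≤ j) :
    Subsingleton (Coh.HH X (CohB1.tensorMod ((Coh.push I.subschemeι).obj (D.F b)) (CohB1.tensorPow M j)) a) := by
  have ε : ∀ j, CohB1.tensorMod (CohB1.tensorPow M (j + 1)) (ClSub.idealMod I) ≅ CohB1.tensorPow M j := fun j =>
    tensorAssoc _ _ _ ≪≫ tensorIso (Iso.refl _) (tensorComm _ _ ≪≫ e) ≪≫ tensorUnitRight _
  refine van_divisor_pos (EE := D.EE (CohB1.tensorPow M)) (GG := D.GG (CohB1.tensorPow M))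
    (FF := D.FF (CohB1.tensorPow M)) (n := n)
    (fun p j => D.seqB (Groth.L18.Ample.isInvertible_tensorPow hM (j + 1)) (ε j) p)
    (fun p j => D.seqA (Groth.L18.Ample.isInvertible_tensorPow hM (j + 1)) (ε j) p)
    (fun p j hp => ?_) hE (d := n) (Nat.le_add_left _ _) hab hj
  haveI : (tensorRightF (CohB1.tensorPow M j)).Additive := Functor.additive_of_preserves_binary_products _
  haveI : (Scheme.Modules.pullback I.subschemeι).IsLeftAdjoint :=
    (Scheme.Modules.pullbackPushforwardAdjunction I.subschemeι).isLeftAdjoint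
  exact (tensorRightF (CohB1.tensorPow M j)).map_isZero
    ((Coh.push I.subschemeι).map_isZero ((Scheme.Modules.pullback I.subschemeι).map_isZero (hG p hp)))

end Groth.L13.HdgDiv
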