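import Groth.Agent.L15.PnHodge.ExtSeq
import Groth.Agent.L13.HdgDiv.Core

/-!
# Exterior powers of an extension with invertible kernel
-/

set_option autoImplicit false
set_option linter.style.haveILetI false
set_option linter.unusedSectionVars false
set_option backward.isDefEq.respectTransparency false
set_option backward.isDefEq.respectTransparency.types false

universe u

open CategoryTheory CategoryTheory.Limits AlgebraicGeometry
open Groth.L12.ExtSh Groth.L00.Tensor Groth.L15.PnHodge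

noncomputable section

namespace Groth.L13.HdgDiv

variable {X : Scheme.{u}}

theorem isExtPow_zero_congr {E E' L L' : X.Modules} (hL : ExtPow.IsExtPow 0 E L)
    (hL' : ExtPow.IsExtPow 0 E' L') : Nonempty (L ≅ L') :=
  ⟨(nonempty_iso_of_isExtPow hL (isExtPow_zero' E)).some ≪≫
    (nonempty_iso_of_isExtPow hL' (isExtPow_zero' E')).some.symm⟩

/-- `0 → S₁ ⊗ Λ^p S₃ → Λ^{p+1} S₂ → Λ^{p+1} S₃ → 0` for an invertible `S₁`. -/
theorem exists_extPow_seq_sub {S : ShortComplex X.Modules} (hS : S.ShortExact)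
    (h₁ : FlatMod.IsFinLocFreeOfRank 1 S.X₁) [Coh.IsQCoh S.X₂] (h₃ : FlatMod.IsFinLocFree S.X₃) (p : ℕ)
    {P Q M : X.Modules} (hP : ExtPow.IsExtPow (p + 1) S.X₃ P) (hQ : ExtPow.IsExtPow p S.X₃ Q)
    (hM : ExtPow.IsExtPow (p + 1) S.X₂ M) :
    HasSeq (CohB1.tensorMod S.X₁ Q) M P := by
  have h₁' := locFree_of_rank h₁
  haveI := isQCoh_of_locFree h₁'
  haveI := isQCoh_of_locFree h₃
  obtain ⟨φP, hφP⟩ := hP
  obtain ⟨φQ, hφQ⟩ := hQ
  obtain ⟨φ0, hφ0⟩ := isExtPow_zero' S.X₁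
  obtain ⟨φ1, hφ1⟩ := isExtPow_one' S.X₁
  have hz : ∀ d i : ℕ, 2 ≤ i → i + d = p + 2 → IsZero (filMod S (p + 1) i) := by
    intro d
    induction d with
    | zero =>
      intro i _ hi
      exact isZero_filMod S (by omega)
    | succ d ih =>
      intro i hi2 hi
      obtain ⟨φ', hφ'⟩ := isExtPow_wedgeMod S.X₁ i
      obtain ⟨φ'', hφ''⟩ := isExtPow_wedgeMod S.X₃ d
      obtain ⟨a, b, w, hab⟩ := exists_shortExact (i := i) (j := d) (n := p + 1) S φ' φ'' hφ' hφ'' hS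
        (by omega) h₁' h₃
      obtain ⟨e⟩ := isIso_left hab (Functor.map_isZero (tensorRightF (wedgeMod S.X₃ d))
        (isZero_wedge h₁ (isExtPow_wedgeMod S.X₁ i) (by omega)))
      exact (ih (i + 1) (by omega) (by omega)).of_iso e.symm
  obtain ⟨a, b, w, hab⟩ := exists_shortExact (i := 1) (j := p) (n := p + 1) S φ1 φQ hφ1 hφQ hS
    (by omega) h₁' h₃
  obtain ⟨e1⟩ : Nonempty (filMod S (p + 1) 1 ≅ CohB1.tensorMod S.X₁ Q) :=
    isIso_right hab (hz p 2 le_rfl (by omega))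
  obtain ⟨a', b', w', hab'⟩ := exists_shortExact (i := 0) (j := p + 1) (n := p + 1) S φ0 φP hφ0 hφP hS
    (by omega) h₁' h₃
  obtain ⟨e0⟩ := nonempty_filMod_zero_iso S hM
  exact ⟨_, hab', ⟨e1⟩, ⟨e0⟩, ⟨tensorUnitLeft P⟩⟩

end Groth.L13.HdgDiv
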